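import Groth.Agent.H5.ResDerivLeft

/-!
# Left derived functors of functors defined on cochain complexes

* `TriCounit.isIso_counit_app`: variant of `H5.TriDerivLeft.isIso_counit_app` where the functor
  `G` is not assumed triangulated: it is enough that `G` inverts the morphisms of `ℬ.trW` between
  objects of `𝒜`.
* `CxCounit.isIso_counit_app`: let `kf` be a class of complexes satisfying `H5.ResDerivLeft.Hyp`
  (e.g. K-flat complexes), and `F : CochainComplex A ℤ ⥤ H` a homotopy invariant functor inverting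
  the quasi-isomorphisms between complexes in `kf`. If `LF` is a left derived functor of `F`
  with respect to quasi-isomorphisms (of complexes!), then the counit `LF (Q K) ⟶ F K` is an
  isomorphism for `K` in `kf`.
-/

set_option autoImplicit false
universe w v u
open CategoryTheory CategoryTheory.Limits Pretriangulated Opposite

namespace Groth.Agent.H45.LDer

open Groth.Agent.H5

namespace TriCounit

variable {C : Type*} [Category C] [HasZeroObject C] [HasShift C ℤ] [Preadditive C]
  [∀ (n : ℤ), (shiftFunctor C n).Additive] [Pretriangulated C] [IsTriangulated C]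
  (𝒜 ℬ : ObjectProperty C) [𝒜.IsTriangulated] [ℬ.IsTriangulated]
  [𝒜.IsClosedUnderIsomorphisms] [ℬ.IsClosedUnderIsomorphisms]
  (hres : ∀ X : C, ∃ (Y : C) (s : Y ⟶ X), 𝒜 Y ∧ ℬ.trW s)
  {D : Type*} [Category D]
  (G : C ⥤ D)
  (hG : ∀ ⦃X Y : C⦄ (f : X ⟶ Y), 𝒜 X → 𝒜 Y → ℬ.trW f → IsIso (G.map f))

include hG in
lemma derives_op : (TriDeriv.Φ 𝒜.op ℬ.op).Derives G.op := by
  intro X Y f hf
  rw [ObjectProperty.trW_inverseImage_ι_iff] at hf
  have hf' : ℬ.op.trW f.hom :=
    ObjectProperty.trW_monotone (inf_le_right : 𝒜.op ⊓ ℬ.op ≤ ℬ.op) _ hf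
  have h := hG f.hom.unop Y.property X.property ((ℬ.trW_op_iff).1 hf')
  change IsIso (G.map f.hom.unop).op
  infer_instance

include hres hG in
theorem isIso_counit_app {E : Type*} [Category E] (L : C ⥤ E) [L.IsLocalization ℬ.trW]
    (LG : E ⥤ D) (α : L ⋙ LG ⟶ G) [LG.IsLeftDerivedFunctor α ℬ.trW] (Y : C) (hY : 𝒜 Y) :
    IsIso (α.app Y) := by
  have h₁ := TriDeriv.isRightDerivabilityStructure 𝒜.op ℬ.op (TriDerivLeft.hres_op 𝒜 ℬ hres)
  have h₂ := derives_op 𝒜 ℬ G hG
  have h₃ := h₂.hasPointwiseRightDerivedFunctor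
  have : G.op.HasRightDerivedFunctor ℬ.trW.op := by
    rw [← ℬ.trW_op]
    infer_instance
  refine LeftDeriv.isIso_counit_app_of_op L ℬ.trW G Y ?_ LG α
  have hL : L.op.IsLocalization ℬ.op.trW := by
    rw [ℬ.trW_op]
    infer_instance
  have hRF : (G.op.totalRightDerived L.op ℬ.trW.op).IsRightDerivedFunctor
      (G.op.totalRightDerivedUnit L.op ℬ.trW.op) ℬ.op.trW := by
    have key : ∀ (W' : MorphismProperty Cᵒᵖ) (h : W' = ℬ.trW.op) [L.op.IsLocalization W'],
        (G.op.totalRightDerived L.op ℬ.trW.op).IsRightDerivedFunctor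
          (G.op.totalRightDerivedUnit L.op ℬ.trW.op) W' := by
      intro W' h _
      subst h
      infer_instance
    exact key _ ℬ.trW_op
  exact h₂.isIso_of_isRightDerivedFunctor (G.op.totalRightDerivedUnit L.op ℬ.trW.op) ⟨op Y, hY⟩

end TriCounit

namespace CxCounit

variable {A : Type u} [Category.{v} A] [Abelian A] [HasDerivedCategory.{w} A]
  {H : Type*} [Category H]
  (F : CochainComplex A ℤ ⥤ H)
  (hF : ∀ ⦃K L : CochainComplex A ℤ⦄ (f g : K ⟶ L), Homotopy f g → F.map f = F.map g)

/-- The functor induced on the homotopy category by a homotopy invariant functor. -/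
def Fh : HomotopyCategory A (ComplexShape.up ℤ) ⥤ H :=
  CategoryTheory.Quotient.lift _ F (fun _ _ f g h => hF f g h.some)

lemma Fh_obj (K : CochainComplex A ℤ) :
    (Fh F hF).obj ((HomotopyCategory.quotient _ _).obj K) = F.obj K := rfl

lemma Fh_map {K L : CochainComplex A ℤ} (f : K ⟶ L) :
    (Fh F hF).map ((HomotopyCategory.quotient _ _).map f) = F.map f := rfl

variable (LF : DerivedCategory A ⥤ H) (α : DerivedCategory.Q ⋙ LF ⟶ F)

/-- The counit on the homotopy category. -/
noncomputable def αh : DerivedCategory.Qh ⋙ LF ⟶ Fh F hF :=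
  CategoryTheory.Quotient.natTransLift _
    { app := fun K => α.app K
      naturality := fun K L f => α.naturality f }

lemma αh_app (K : CochainComplex A ℤ) :
    (αh F hF LF α).app ((HomotopyCategory.quotient _ _).obj K) = α.app K := rfl

variable [LF.IsLeftDerivedFunctor α (HomologicalComplex.quasiIso A (ComplexShape.up ℤ))]

/-- A left derived functor with respect to quasi-isomorphisms of complexes is also a left
derived functor (of the induced functor) with respect to quasi-isomorphisms in the homotopy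
category. -/
lemma isLeftDerivedFunctor_αh :
    LF.IsLeftDerivedFunctor (αh F hF LF α)
      (HomotopyCategory.quasiIso A (ComplexShape.up ℤ)) := by
  let W := HomologicalComplex.quasiIso A (ComplexShape.up ℤ)
  let β : ∀ (E : Functor.RightExtension DerivedCategory.Qh (Fh F hF)),
      DerivedCategory.Q ⋙ E.left ⟶ F := fun E =>
    { app := fun K => E.hom.app ((HomotopyCategory.quotient _ _).obj K)
      naturality := fun K L f => E.hom.naturality ((HomotopyCategory.quotient _ _).map f) }
  constructor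
  constructor
  refine ⟨Limits.IsTerminal.ofUniqueHom
    (fun E => CostructuredArrow.homMk (LF.leftDerivedLift α W E.left (β E)) ?_) ?_⟩
  · ext X
    obtain ⟨K, rfl⟩ := X.quotient_obj_surjective
    exact LF.leftDerived_fac_app α W E.left (β E) K
  · intro E m
    ext Y
    have h1 : m.left = LF.leftDerivedLift α W E.left (β E) := by
      apply LF.leftDerived_ext α W
      rw [Functor.leftDerived_fac]
      ext K
      have := congr_app m.w ((HomotopyCategory.quotient _ _).obj K)
      simp only [Functor.const_obj_obj, NatTrans.comp_app, Functor.whiskeringLeft_obj_map,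
        Functor.whiskerLeft_app, Functor.fromPUnit] at this
      refine Eq.trans ?_ (this.trans ?_)
      · rfl
      · simp [β]
    exact congr_app h1 Y

omit [LF.IsLeftDerivedFunctor α (HomologicalComplex.quasiIso A (ComplexShape.up ℤ))]

variable {kf : ObjectProperty (CochainComplex A ℤ)} (Hkf : ResDerivLeft.Hyp kf)
  (hinv : ∀ ⦃P P' : CochainComplex A ℤ⦄ (φ : P ⟶ P'), kf P → kf P' → QuasiIso φ →
    IsIso (F.map φ))

include hinv in
omit [HasDerivedCategory A] in
lemma isIso_Fh_map ⦃X Y : HomotopyCategory A (ComplexShape.up ℤ)⦄ (f : X ⟶ Y)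
    (hX : ResDerivLeft.𝒜 kf X) (hY : ResDerivLeft.𝒜 kf Y) (hf : (ResDerivLeft.ℬ A).trW f) :
    IsIso ((Fh F hF).map f) := by
  obtain ⟨X₀, hX₀, ⟨eX⟩⟩ := hX
  obtain ⟨Y₀, hY₀, ⟨eY⟩⟩ := hY
  obtain ⟨P, rfl⟩ := X₀.quotient_obj_surjective
  obtain ⟨P', rfl⟩ := Y₀.quotient_obj_surjective
  replace hX₀ := (ResDerivLeft.𝒜₀_quotient_obj_iff P).1 hX₀
  replace hY₀ := (ResDerivLeft.𝒜₀_quotient_obj_iff P').1 hY₀
  obtain ⟨φ, hφ⟩ := (HomotopyCategory.quotient _ _).map_surjective (eX.inv ≫ f ≫ eY.hom)
  have h1 : (ResDerivLeft.ℬ A).trW (eX.inv ≫ f ≫ eY.hom) := by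
    rw [MorphismProperty.cancel_left_of_respectsIso (ResDerivLeft.ℬ A).trW,
      MorphismProperty.cancel_right_of_respectsIso (ResDerivLeft.ℬ A).trW]
    exact hf
  have h2 : QuasiIso φ := by
    rw [← hφ, ← HomotopyCategory.quasiIso_eq_trW_subcategoryAcyclic,
      HomotopyCategory.quotient_map_mem_quasiIso_iff] at h1
    exact h1
  have h3 : IsIso ((Fh F hF).map (eX.inv ≫ f ≫ eY.hom)) := by
    rw [← hφ]
    exact hinv φ hX₀ hY₀ h2
  have h4 : f = eX.hom ≫ (eX.inv ≫ f ≫ eY.hom) ≫ eY.inv := by simp
  rw [h4, Functor.map_comp, Functor.map_comp]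
  infer_instance

include Hkf hinv in
omit [HasDerivedCategory A] in
theorem isIso_counit_h_aux (W₂ : MorphismProperty (HomotopyCategory A (ComplexShape.up ℤ)))
    (hW : W₂ = (ResDerivLeft.ℬ A).trW) {E : Type*} [Category E]
    (L : HomotopyCategory A (ComplexShape.up ℤ) ⥤ E) [L.IsLocalization W₂]
    (LG : E ⥤ H) (α' : L ⋙ LG ⟶ Fh F hF) [LG.IsLeftDerivedFunctor α' W₂]
    (K : CochainComplex A ℤ) (hK : kf K) :
    IsIso (α'.app ((HomotopyCategory.quotient _ _).obj K)) := by
  subst hW
  have := ResDerivLeft.isTriangulated Hkf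
  exact TriCounit.isIso_counit_app (ResDerivLeft.𝒜 kf) (ResDerivLeft.ℬ A)
    (ResDerivLeft.hres Hkf) (Fh F hF) (isIso_Fh_map F hF hinv) L LG α' _
    (ResDerivLeft.𝒜_quotient_obj K hK)

variable [LF.IsLeftDerivedFunctor α (HomologicalComplex.quasiIso A (ComplexShape.up ℤ))]

include Hkf hinv hF in
/-- **Main theorem**: the counit of a left derived functor (with respect to quasi-isomorphisms of
cochain complexes) of a homotopy invariant functor `F` is an isomorphism on the complexes
of a class `kf` with enough resolutions on which `F` inverts quasi-isomorphisms. -/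
theorem isIso_counit_app (K : CochainComplex A ℤ) (hK : kf K) : IsIso (α.app K) := by
  have := isLeftDerivedFunctor_αh F hF LF α
  exact isIso_counit_h_aux F hF Hkf hinv _
    (HomotopyCategory.quasiIso_eq_trW_subcategoryAcyclic _) DerivedCategory.Qh LF
    (αh F hF LF α) K hK

end CxCounit

end Groth.Agent.H45.LDer
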