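import Groth.Agent.H45.SheafTensor.FlatOps
import Groth.Agent.H45.KFlat.Bounded
import Groth.Prelude.Def_KFlatSite

/-!
# The terms of the tensor product of two complexes of flat modules are flat
-/

set_option autoImplicit false
universe u
open CategoryTheory CategoryTheory.Limits HomologicalComplex

namespace Groth.Agent.H45.LDer

variable {C : Type u} [SmallCategory C] {J : GrothendieckTopology C} {O : Sheaf J CommRingCat.{u}}

/-- A direct sum of flat modules indexed by a type in `Type` is flat. -/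
theorem isFlat_of_isColimit_cofan₀ {ι : Type} (F : ι → ModSite.Mod O)
    (hF : ∀ i, ModSite.IsFlat (F i)) (c : Cofan F) (hc : IsColimit c) : ModSite.IsFlat c.pt := by
  let c' : Cofan (fun j : ULift.{u} ι => F j.down) := Cofan.mk c.pt (fun j => c.inj j.down)
  have hc' : IsColimit c' := mkCofanColimit c'
    (fun s => hc.desc (Cofan.mk s.pt (fun i => s.inj ⟨i⟩)))
    (fun s j => by
      have := hc.fac (Cofan.mk s.pt (fun i => s.inj ⟨i⟩)) ⟨j.down⟩
      exact this)
    (fun s m hm => by
      refine hc.hom_ext (fun ⟨i⟩ => ?_)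
      have h1 := hc.fac (Cofan.mk s.pt (fun i => s.inj ⟨i⟩)) ⟨i⟩
      rw [h1]
      exact hm ⟨i⟩)
  exact isFlat_of_isColimit_cofan (fun j : ULift.{u} ι => F j.down)
    (fun j : ULift.{u} ι => hF j.down) c' hc'

lemma isZero_of_isColimit_cofan {A : Type*} [Category A] [HasZeroMorphisms A] {ι : Type*}
    (F : ι → A) (hF : ∀ i, IsZero (F i)) (c : Cofan F) (hc : IsColimit c) : IsZero c.pt := by
  rw [IsZero.iff_id_eq_zero]
  refine hc.hom_ext (fun ⟨i⟩ => ?_)
  exact (hF i).eq_of_src _ _

variable (P F : CochainComplex (ModSite.Mod O) ℤ)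

lemma isZero_tensorBi_obj_obj_left {A : ModSite.Mod O} (hA : IsZero A) (B : ModSite.Mod O) :
    IsZero (((ModSite.tensorBi O).obj A).obj B) :=
  ((Functor.isZero_iff _).1 ((ModSite.tensorBi O).map_isZero hA)) B

lemma isZero_tensorBi_obj_obj_right (A : ModSite.Mod O) {B : ModSite.Mod O} (hB : IsZero B) :
    IsZero (((ModSite.tensorBi O).obj A).obj B) :=
  ((ModSite.tensorBi O).obj A).map_isZero hB

/-- The terms of `P ⊗ F` are flat if those of `P` and `F` are. -/
theorem isFlat_mapBifunctor_X (hP : ∀ i, ModSite.IsFlat (P.X i)) (hF : ∀ i, ModSite.IsFlat (F.X i))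
    (n : ℤ) : ModSite.IsFlat ((mapBifunctor P F (ModSite.tensorBi O) (ComplexShape.up ℤ)).X n) := by
  let π := ComplexShape.π (ComplexShape.up ℤ) (ComplexShape.up ℤ) (ComplexShape.up ℤ)
  let X : GradedObject (ℤ × ℤ) (ModSite.Mod O) :=
    ((((ModSite.tensorBi O).mapBifunctorHomologicalComplex _ _).obj P).obj F).toGradedObject
  exact isFlat_of_isColimit_cofan₀ (X.mapObjFun π n)
    (fun i => isFlat_tensor _ _ (hP i.1.1) (hF i.1.2)) (X.cofanMapObj π n)
    (X.isColimitCofanMapObj π n)

/-- Vanishing of the terms of `P ⊗ F`. -/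
theorem isZero_mapBifunctor_X (n : ℤ)
    (h : ∀ p q : ℤ, p + q = n → IsZero (P.X p) ∨ IsZero (F.X q)) :
    IsZero ((mapBifunctor P F (ModSite.tensorBi O) (ComplexShape.up ℤ)).X n) := by
  let π := ComplexShape.π (ComplexShape.up ℤ) (ComplexShape.up ℤ) (ComplexShape.up ℤ)
  let X : GradedObject (ℤ × ℤ) (ModSite.Mod O) :=
    ((((ModSite.tensorBi O).mapBifunctorHomologicalComplex _ _).obj P).obj F).toGradedObject
  refine isZero_of_isColimit_cofan (X.mapObjFun π n) (fun i => ?_) (X.cofanMapObj π n)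
    (X.isColimitCofanMapObj π n)
  obtain ⟨⟨p, q⟩, hpq⟩ := i
  rcases h p q hpq with h1 | h1
  · exact isZero_tensorBi_obj_obj_left h1 _
  · exact isZero_tensorBi_obj_obj_right _ h1

end Groth.Agent.H45.LDer
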