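import Groth.Agent.H45.LDer.LTensorCx
import Groth.Agent.H45.LDer.AssocNat
import Groth.Agent.H45.KFlat.TensorKFlat
import Mathlib.CategoryTheory.Adjunction.Unique

/-!
# `(- ⊗^L K) ⊗^L L ≅ - ⊗^L (K ⊗ L)` for `L` K-flat, and the adjoint statement for `RHom`
-/

set_option autoImplicit false
universe u
open CategoryTheory CategoryTheory.Limits HomologicalComplex ZeroObject

attribute [local instance] HasDerivedCategory.standard

namespace Groth.Agent.H45.LDer

variable {C : Type u} [SmallCategory C] {J : GrothendieckTopology C} (O : Sheaf J CommRingCat.{u})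
  (K L : CochainComplex (ModSite.Mod O) ℤ)

/-- `(- ⊗ K) ⊗ L ≅ - ⊗ (K ⊗ L)` as functors on complexes. -/
noncomputable def tensorRightCompIso :
    (ModSite.tensorCx O).flip.obj K ⋙ (ModSite.tensorCx O).flip.obj L ≅
      (ModSite.tensorCx O).flip.obj (((ModSite.tensorCx O).obj K).obj L) :=
  NatIso.ofComponents (fun A => tensorCxAssociator O A K L) (fun {A A'} f =>
    AssocNat.mapBifunctorAssociator_hom_naturality₁ (tensorAssocNatIso O) f K L
      (ComplexShape.up ℤ) (ComplexShape.up ℤ) (ComplexShape.up ℤ))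

/-- Every object of the derived category is isomorphic to the image of a K-flat complex. -/
lemma exists_isKFlat_iso (Y : DCoh.DMod (ModSite.ringSh O)) :
    ∃ (P : CochainComplex (ModSite.Mod O) ℤ), ModSite.IsKFlat P ∧
      Nonempty (DerivedCategory.Q.obj P ≅ Y) := by
  obtain ⟨P, q, hP, -, hq, -⟩ := exists_isKFlat_resolution O (DerivedCategory.Q.objPreimage Y)
  exact ⟨P, hP, ⟨asIso (DerivedCategory.Q.map q) ≪≫ DerivedCategory.Q.objObjPreimageIso Y⟩⟩

section

variable [ModSite.HasLTensorCx K] [ModSite.HasLTensorCx L]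
  [ModSite.HasLTensorCx (((ModSite.tensorCx O).obj K).obj L)]

local notation "W" => HomologicalComplex.quasiIso (ModSite.Mod O) (ComplexShape.up ℤ)

/-- The canonical natural transformation `Q ⋙ (- ⊗^L K) ⊗^L L ⟶ Q(- ⊗ (K ⊗ L))`. -/
noncomputable def compCounit :
    DerivedCategory.Q ⋙ (ModSite.LTensorCx K ⋙ ModSite.LTensorCx L) ⟶
      ModSite.tensorCxQ (((ModSite.tensorCx O).obj K).obj L) :=
  (Functor.associator _ _ _).inv ≫
    Functor.whiskerRight ((ModSite.tensorCxQ K).totalLeftDerivedCounit DerivedCategory.Q W)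
      (ModSite.LTensorCx L) ≫
    (Functor.associator _ _ _).hom ≫
    Functor.whiskerLeft ((ModSite.tensorCx O).flip.obj K)
      ((ModSite.tensorCxQ L).totalLeftDerivedCounit DerivedCategory.Q W) ≫
    (Functor.associator _ _ _).inv ≫
    Functor.whiskerRight (tensorRightCompIso O K L).hom DerivedCategory.Q

variable {L} in
lemma isIso_compCounit_app (hL : ModSite.IsKFlat L) (P : CochainComplex (ModSite.Mod O) ℤ)
    (hP : ModSite.IsKFlat P) : IsIso ((compCounit O K L).app P) := by
  have h1 : IsIso (((ModSite.tensorCxQ K).totalLeftDerivedCounit DerivedCategory.Q W).app P) :=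
    isIso_counit_of_isKFlat O K _ _ P hP
  have h2 : IsIso ((ModSite.tensorCxQ L).totalLeftDerivedCounit DerivedCategory.Q W) :=
    isIso_counit_of_isKFlat_right hL _ _
  dsimp [compCounit]
  infer_instance

/-- The comparison morphism `(- ⊗^L K) ⊗^L L ⟶ - ⊗^L (K ⊗ L)`. -/
noncomputable def compLift :
    ModSite.LTensorCx K ⋙ ModSite.LTensorCx L ⟶
      ModSite.LTensorCx (((ModSite.tensorCx O).obj K).obj L) :=
  (ModSite.LTensorCx (((ModSite.tensorCx O).obj K).obj L)).leftDerivedLift
    ((ModSite.tensorCxQ (((ModSite.tensorCx O).obj K).obj L)).totalLeftDerivedCounit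
      DerivedCategory.Q W) W _ (compCounit O K L)

variable {L} in
lemma isIso_compLift (hL : ModSite.IsKFlat L) : IsIso (compLift O K L) := by
  rw [NatTrans.isIso_iff_isIso_app]
  intro Y
  obtain ⟨P, hP, ⟨e⟩⟩ := exists_isKFlat_iso O Y
  rw [← NatTrans.isIso_app_iff_of_iso (compLift O K L) e]
  have h1 := isIso_compCounit_app O K hL P hP
  have h2 : IsIso (((ModSite.tensorCxQ (((ModSite.tensorCx O).obj K).obj L)).totalLeftDerivedCounit
      DerivedCategory.Q W).app P) := isIso_counit_of_isKFlat O _ _ _ P hP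
  have h3 : (compLift O K L).app (DerivedCategory.Q.obj P) ≫
      ((ModSite.tensorCxQ (((ModSite.tensorCx O).obj K).obj L)).totalLeftDerivedCounit
        DerivedCategory.Q W).app P = (compCounit O K L).app P :=
    Functor.leftDerived_fac_app _ _ W _ (compCounit O K L) P
  rw [← h3] at h1
  exact IsIso.of_isIso_comp_right _
    (((ModSite.tensorCxQ (((ModSite.tensorCx O).obj K).obj L)).totalLeftDerivedCounit
        DerivedCategory.Q W).app P)

variable {L} in
/-- **`(- ⊗^L K) ⊗^L L ≅ - ⊗^L (K ⊗ L)` when `L` is K-flat.** -/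
noncomputable def LTensorCxCompIso (hL : ModSite.IsKFlat L) :
    ModSite.LTensorCx K ⋙ ModSite.LTensorCx L ≅
      ModSite.LTensorCx (((ModSite.tensorCx O).obj K).obj L) :=
  haveI := isIso_compLift O K hL
  asIso (compLift O K L)

variable {L} in
/-- The adjoint statement: `RHom(K ⊗ L, -) ≅ RHom(K, RHom(L, -))` for any right adjoints. -/
noncomputable def rightAdjointCompIso (hL : ModSite.IsKFlat L)
    {RK RL RKL : DCoh.DMod (ModSite.ringSh O) ⥤ DCoh.DMod (ModSite.ringSh O)}
    (adjK : ModSite.LTensorCx K ⊣ RK) (adjL : ModSite.LTensorCx L ⊣ RL)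
    (adjKL : ModSite.LTensorCx (((ModSite.tensorCx O).obj K).obj L) ⊣ RKL) :
    RKL ≅ RL ⋙ RK :=
  Adjunction.rightAdjointUniq adjKL
    (Adjunction.ofNatIsoLeft (adjK.comp adjL) (LTensorCxCompIso O K hL))

end

end Groth.Agent.H45.LDer
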