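import Groth.Agent.H45.LDer.Counit
import Groth.Agent.H45.Resolution.TensorQuasiIso
import Groth.Agent.H45.KFlat.Bounded
import Groth.Agent.H45.KFlat.Single
import Groth.Prelude.Def_KFlatSite
import Mathlib.Algebra.Homology.BifunctorHomotopy
import Mathlib.CategoryTheory.Functor.Derived.PointwiseLeftDerived

/-!
# The derived tensor product `- ⊗^L E` on a ringed site is computed by K-flat complexes

* `isIso_counit_of_isKFlat`: for any `E` and K-flat `P`, the counit
  `(LTensorCx E).obj (Q.obj P) ⟶ Q.obj (P ⊗ E)` is an isomorphism.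
* `isIso_counit_of_isKFlat_right`: if `E` is K-flat, the counit is an isomorphism (everywhere).
-/

set_option autoImplicit false
universe u
open CategoryTheory CategoryTheory.Limits HomologicalComplex ZeroObject

attribute [local instance] HasDerivedCategory.standard

namespace Groth.Agent.H45.LDer

open Groth.Agent.H5

variable {C : Type u} [SmallCategory C] {J : GrothendieckTopology C} (O : Sheaf J CommRingCat.{u})

/-- the class of K-flat complexes -/
def kf : ObjectProperty (CochainComplex (ModSite.Mod O) ℤ) := fun K => ModSite.IsKFlat K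

lemma isKFlat_zero : ModSite.IsKFlat (0 : CochainComplex (ModSite.Mod O) ℤ) := by
  have hz : ∀ q : ℤ, IsZero ((0 : CochainComplex (ModSite.Mod O) ℤ).X q) := fun q =>
    (HomologicalComplex.eval _ (ComplexShape.up ℤ) q).map_isZero (isZero_zero _)
  exact Groth.Agent.H45.isKFlat_of_isZero_of_isFlat (O := O) _ 0 (fun q _ => hz q)
    (Groth.Agent.H45.isFlat_of_isZero (O := O) (hz 0))

lemma hyp : ResDerivLeft.Hyp (kf O) where
  zero := isKFlat_zero O
  shift K n hK := (Groth.Agent.H45.isKFlat_shift_iff (O := O) K n).2 hK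
  cone f h₁ h₂ := (Groth.Agent.H45.isKFlat_mappingCone_two_of_three (O := O) f).1 h₁ h₂
  res G := by
    obtain ⟨K, q, hK, -, hq, -⟩ := Groth.Agent.H45.exists_isKFlat_resolution O G
    exact ⟨K, q, hK, hq⟩

variable (E : CochainComplex (ModSite.Mod O) ℤ)

lemma tensorCxQ_map_eq_of_homotopy ⦃K L : CochainComplex (ModSite.Mod O) ℤ⦄ (f g : K ⟶ L)
    (h : Homotopy f g) : (ModSite.tensorCxQ E).map f = (ModSite.tensorCxQ E).map g :=
  DerivedCategory.Q_map_eq_of_homotopy _
    (mapBifunctorMapHomotopy₁ h (𝟙 E) (ModSite.tensorBi O) (ComplexShape.up ℤ))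

variable {O} in
/-- A quasi-isomorphism between K-flat complexes stays a quasi-isomorphism after tensoring
(on the right) with an arbitrary complex. -/
theorem quasiIso_mapBifunctorMap_of_isKFlat_left {P Q : CochainComplex (ModSite.Mod O) ℤ}
    (hP : ModSite.IsKFlat P) (hQ : ModSite.IsKFlat Q) (α : P ⟶ Q) [QuasiIso α]
    (F : CochainComplex (ModSite.Mod O) ℤ) :
    QuasiIso (mapBifunctorMap α (𝟙 F) (ModSite.tensorBi O) (ComplexShape.up ℤ)) := by
  obtain ⟨K, q, hK, -, hq, -⟩ := exists_isKFlat_resolution O F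
  have htop : QuasiIso (mapBifunctorMap α (𝟙 K) (ModSite.tensorBi O) (ComplexShape.up ℤ)) :=
    quasiIso_mapBifunctorMap_left hK α
  have hl : QuasiIso (mapBifunctorMap (𝟙 P) q (ModSite.tensorBi O) (ComplexShape.up ℤ)) :=
    quasiIso_mapBifunctorMap_right P (isZero_homology_mapBifunctor_left_of_isKFlat hP) q
  have hr : QuasiIso (mapBifunctorMap (𝟙 Q) q (ModSite.tensorBi O) (ComplexShape.up ℤ)) :=
    quasiIso_mapBifunctorMap_right Q (isZero_homology_mapBifunctor_left_of_isKFlat hQ) q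
  have hsq : mapBifunctorMap (𝟙 P) q (ModSite.tensorBi O) (ComplexShape.up ℤ) ≫
      mapBifunctorMap α (𝟙 F) (ModSite.tensorBi O) (ComplexShape.up ℤ) =
      mapBifunctorMap α (𝟙 K) (ModSite.tensorBi O) (ComplexShape.up ℤ) ≫
        mapBifunctorMap (𝟙 Q) q (ModSite.tensorBi O) (ComplexShape.up ℤ) :=
    ((ModSite.tensorCx O).map α).naturality q
  have h3 : QuasiIso (mapBifunctorMap (𝟙 P) q (ModSite.tensorBi O) (ComplexShape.up ℤ) ≫
      mapBifunctorMap α (𝟙 F) (ModSite.tensorBi O) (ComplexShape.up ℤ)) := by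
    rw [hsq]
    infer_instance
  exact quasiIso_of_comp_left
    (mapBifunctorMap (𝟙 P) q (ModSite.tensorBi O) (ComplexShape.up ℤ)) _

lemma isIso_tensorCxQ_map ⦃P P' : CochainComplex (ModSite.Mod O) ℤ⦄ (φ : P ⟶ P')
    (hP : kf O P) (hP' : kf O P') (hφ : QuasiIso φ) :
    IsIso ((ModSite.tensorCxQ E).map φ) := by
  have : QuasiIso (((ModSite.tensorCx O).flip.obj E).map φ) :=
    quasiIso_mapBifunctorMap_of_isKFlat_left hP hP' φ E
  exact inferInstanceAs (IsIso (DerivedCategory.Q.map (((ModSite.tensorCx O).flip.obj E).map φ)))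

/-- For any `E` and any K-flat `P`, the counit `(P ⊗^L E) ⟶ (P ⊗ E)` is an isomorphism. -/
theorem isIso_counit_of_isKFlat (LF : DCoh.DMod (ModSite.ringSh O) ⥤ DCoh.DMod (ModSite.ringSh O))
    (α : DerivedCategory.Q ⋙ LF ⟶ ModSite.tensorCxQ E)
    [LF.IsLeftDerivedFunctor α (HomologicalComplex.quasiIso (ModSite.Mod O) (ComplexShape.up ℤ))]
    (P : CochainComplex (ModSite.Mod O) ℤ) (hP : ModSite.IsKFlat P) : IsIso (α.app P) :=
  CxCounit.isIso_counit_app (ModSite.tensorCxQ E) (tensorCxQ_map_eq_of_homotopy O E) LF α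
    (hyp O) (isIso_tensorCxQ_map O E) P hP

variable {O E} in
lemma isInvertedBy_tensorCxQ (hE : ModSite.IsKFlat E) :
    (HomologicalComplex.quasiIso (ModSite.Mod O) (ComplexShape.up ℤ)).IsInvertedBy
      (ModSite.tensorCxQ E) := by
  intro K L φ hφ
  have : QuasiIso φ := hφ
  have : QuasiIso (((ModSite.tensorCx O).flip.obj E).map φ) :=
    quasiIso_mapBifunctorMap_left hE φ
  exact inferInstanceAs (IsIso (DerivedCategory.Q.map (((ModSite.tensorCx O).flip.obj E).map φ)))

variable {O E} in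
/-- If `E` is K-flat, the counit `(A ⊗^L E) ⟶ (A ⊗ E)` is an isomorphism for all `A`. -/
theorem isIso_counit_of_isKFlat_right (hE : ModSite.IsKFlat E)
    (LF : DCoh.DMod (ModSite.ringSh O) ⥤ DCoh.DMod (ModSite.ringSh O))
    (α : DerivedCategory.Q ⋙ LF ⟶ ModSite.tensorCxQ E)
    [LF.IsLeftDerivedFunctor α (HomologicalComplex.quasiIso (ModSite.Mod O) (ComplexShape.up ℤ))] :
    IsIso α :=
  Functor.isIso_of_isLeftDerivedFunctor_of_inverts LF α (isInvertedBy_tensorCxQ hE)

end Groth.Agent.H45.LDer
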